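import Mathlib
import Groth.Agent.H20.ComplNoeth2

/-!
# Compatible families over complete local flat algebras: formal dévissage (towards S11181)
-/

set_option autoImplicit false
set_option linter.style.haveILetI false
set_option linter.unusedSectionVars false
universe u

namespace Groth.Agent.H78.ComplFam

open IsLocalRing TensorProduct

variable (A : Type u) [CommRing A]

/-- a compatible family of elements of `B ⊗ M`, `B` running over the complete Noetherian local flat
`A`-algebras -/
structure Fam (M : Type u) [AddCommGroup M] [Module A M] where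
  x : ∀ (B : Type u) [CommRing B] [Algebra A B] [IsNoetherianRing B] [IsLocalRing B],
    IsAdicComplete (maximalIdeal B) B → Module.Flat A B → B ⊗[A] M
  compat : ∀ (B : Type u) [CommRing B] [Algebra A B] [IsNoetherianRing B] [IsLocalRing B]
    (hB : IsAdicComplete (maximalIdeal B) B) (hBf : Module.Flat A B)
    (B' : Type u) [CommRing B'] [Algebra A B'] [IsNoetherianRing B'] [IsLocalRing B']
    (hB' : IsAdicComplete (maximalIdeal B') B') (hB'f : Module.Flat A B') (g : B →ₐ[A] B'),
    LinearMap.rTensor M g.toLinearMap (x B hB hBf) = x B' hB' hB'f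

variable {A}
variable {M N : Type u} [AddCommGroup M] [Module A M] [AddCommGroup N] [Module A N]

/-- the family is constant with value `m` -/
def Fam.IsConst (F : Fam A M) (m : M) : Prop :=
  ∀ (B : Type u) [CommRing B] [Algebra A B] [IsNoetherianRing B] [IsLocalRing B]
    (hB : IsAdicComplete (maximalIdeal B) B) (hBf : Module.Flat A B),
    F.x B hB hBf = (1 : B) ⊗ₜ[A] m

/-- push a family forward along a linear map -/
def Fam.map (F : Fam A M) (f : M →ₗ[A] N) : Fam A N where
  x B _ _ _ _ hB hBf := LinearMap.lTensor B f (F.x B hB hBf)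
  compat B _ _ _ _ hB hBf B' _ _ _ _ hB' hB'f g := by
    rw [← F.compat B hB hBf B' hB' hB'f g, ← LinearMap.comp_apply, ← LinearMap.comp_apply,
      LinearMap.rTensor_comp_lTensor, LinearMap.lTensor_comp_rTensor]

/-- subtract a constant family -/
def Fam.subConst (F : Fam A M) (m : M) : Fam A M where
  x B _ _ _ _ hB hBf := F.x B hB hBf - (1 : B) ⊗ₜ[A] m
  compat B _ _ _ _ hB hBf B' _ _ _ _ hB' hB'f g := by
    rw [map_sub, F.compat B hB hBf B' hB' hB'f g, LinearMap.rTensor_tmul]
    simp

variable (A M) in
/-- every compatible family on `M` is constant -/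
def Good : Prop := ∀ F : Fam A M, ∃ m : M, F.IsConst m

theorem good_of_subsingleton [Subsingleton M] : Good A M := by
  intro F
  refine ⟨0, ?_⟩
  intro B _ _ _ _ hB hBf
  exact Subsingleton.elim _ _

theorem good_of_exact {N₁ N₂ N₃ : Type u} [AddCommGroup N₁] [Module A N₁] [AddCommGroup N₂]
    [Module A N₂] [AddCommGroup N₃] [Module A N₃] (f : N₁ →ₗ[A] N₂) (g : N₂ →ₗ[A] N₃)
    (hf : Function.Injective f) (hg : Function.Surjective g) (hfg : Function.Exact f g)
    (h₁ : Good A N₁) (h₃ : Good A N₃) : Good A N₂ := by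
  intro F
  obtain ⟨m₃, hm₃⟩ := h₃ (F.map g)
  obtain ⟨m₂, rfl⟩ := hg m₃
  -- the family `F - m₂` dies in `N₃`
  have hker : ∀ (B : Type u) [CommRing B] [Algebra A B] [IsNoetherianRing B] [IsLocalRing B]
      (hB : IsAdicComplete (maximalIdeal B) B) (hBf : Module.Flat A B),
      ∃ w : B ⊗[A] N₁, LinearMap.lTensor B f w = F.x B hB hBf - (1 : B) ⊗ₜ[A] m₂ := by
    intro B _ _ _ _ hB hBf
    have hex : Function.Exact (LinearMap.lTensor B f) (LinearMap.lTensor B g) :=
      lTensor_exact B hfg hg
    apply (hex _).mp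
    rw [map_sub, LinearMap.lTensor_tmul]
    have := hm₃ B hB hBf
    change LinearMap.lTensor B g (F.x B hB hBf) = _ at this
    rw [this, sub_self]
  let F' : Fam A N₁ :=
    { x := fun B _ _ _ _ hB hBf => (hker B hB hBf).choose
      compat := by
        intro B _ _ _ _ hB hBf B' _ _ _ _ hB' hB'f φ
        have hinj : Function.Injective (LinearMap.lTensor B' f) :=
          Module.Flat.lTensor_preserves_injective_linearMap f hf
        apply hinj
        rw [(hker B' hB' hB'f).choose_spec, ← LinearMap.comp_apply,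
          LinearMap.lTensor_comp_rTensor, ← LinearMap.rTensor_comp_lTensor, LinearMap.comp_apply,
          (hker B hB hBf).choose_spec, map_sub, F.compat B hB hBf B' hB' hB'f φ,
          LinearMap.rTensor_tmul]
        simp }
  obtain ⟨m₁, hm₁⟩ := h₁ F'
  refine ⟨m₂ + f m₁, ?_⟩
  intro B _ _ _ _ hB hBf
  have h1 := (hker B hB hBf).choose_spec
  have h2 : (hker B hB hBf).choose = (1 : B) ⊗ₜ[A] m₁ := hm₁ B hB hBf
  rw [h2, LinearMap.lTensor_tmul] at h1
  rw [TensorProduct.tmul_add, h1]
  abel

theorem good_of_equiv (e : M ≃ₗ[A] N) (h : Good A M) : Good A N := by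
  intro F
  obtain ⟨m, hm⟩ := h (F.map e.symm.toLinearMap)
  refine ⟨e m, ?_⟩
  intro B _ _ _ _ hB hBf
  have h1 := hm B hB hBf
  change LinearMap.lTensor B e.symm.toLinearMap (F.x B hB hBf) = _ at h1
  have h2 := congrArg (LinearMap.lTensor B e.toLinearMap) h1
  rw [← LinearMap.comp_apply, ← LinearMap.lTensor_comp, LinearMap.lTensor_tmul] at h2
  simpa using h2

end Groth.Agent.H78.ComplFam
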