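import Mathlib
import Groth.Agent.H20.ComplNoeth2
import Groth.Agent.H20.AdicQuot
import Groth.Agent.H26.ComplFlatMap

/-!
# The completed local ring of a Noetherian ring at a prime (towards S11181)
-/

set_option autoImplicit false
set_option linter.style.haveILetI false
set_option linter.unusedSectionVars false
universe u

namespace Groth.Agent.H78.ComplFam

open IsLocalRing TensorProduct

variable (A : Type u) [CommRing A] [IsNoetherianRing A]

instance instNoethLoc (q : Ideal A) [q.IsPrime] : IsNoetherianRing (Localization.AtPrime q) :=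
  IsLocalization.isNoetherianRing q.primeCompl _ inferInstance

/-- the completed local ring at a prime -/
abbrev Cq (q : Ideal A) [q.IsPrime] : Type u :=
  AdicCompletion (maximalIdeal (Localization.AtPrime q)) (Localization.AtPrime q)

variable (q : Ideal A) [q.IsPrime]

theorem cq_complete : IsAdicComplete (maximalIdeal (Cq A q)) (Cq A q) := inferInstance

theorem cq_flat : Module.Flat A (Cq A q) := by
  have hAR : Module.Flat A (Localization.AtPrime q) := IsLocalization.flat _ q.primeCompl
  have hRB : Module.Flat (Localization.AtPrime q) (Cq A q) := inferInstance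
  exact Module.Flat.trans A (Localization.AtPrime q) (Cq A q)

theorem cq_faithfullyFlat : Module.FaithfullyFlat (Localization.AtPrime q) (Cq A q) :=
  Module.FaithfullyFlat.of_flat_of_isLocalHom

theorem cq_maximalIdeal : maximalIdeal (Cq A q) = q.map (algebraMap A (Cq A q)) := by
  rw [AdicCompletion.maximalIdeal_eq_map,
    IsScalarTower.algebraMap_eq A (Localization.AtPrime q) (Cq A q), ← Ideal.map_map,
    Localization.AtPrime.map_eq_maximalIdeal]

theorem cq_comap_maximalIdeal : (maximalIdeal (Cq A q)).comap (algebraMap A (Cq A q)) = q := by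
  rw [IsScalarTower.algebraMap_eq A (Localization.AtPrime q) (Cq A q), ← Ideal.comap_comap]
  have h1 : (maximalIdeal (Cq A q)).comap (algebraMap (Localization.AtPrime q) (Cq A q)) =
      maximalIdeal (Localization.AtPrime q) := by
    have : IsLocalHom (algebraMap (Localization.AtPrime q) (Cq A q)) := inferInstance
    exact ((local_hom_TFAE (algebraMap (Localization.AtPrime q) (Cq A q))).out 0 4 rfl rfl).mp this
  rw [h1]
  exact IsLocalization.AtPrime.under_maximalIdeal _ q

/-- every element of the completion is, up to a unit of `A_q`, congruent to an element of `A`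
modulo `q` -/
theorem cq_exists_congr (z : Cq A q) :
    ∃ a s : A, s ∉ q ∧ s • z - algebraMap A (Cq A q) a ∈ q.map (algebraMap A (Cq A q)) := by
  let R := Localization.AtPrime q
  obtain ⟨r, hr⟩ := Ideal.Quotient.mk_surjective
    (AdicCompletion.evalₐ (maximalIdeal R) 1 z)
  have hmem : z - algebraMap R (Cq A q) r ∈ maximalIdeal (Cq A q) := by
    have hk := Groth.Agent.H20.ker_evalₐ_eq_map (maximalIdeal R)
      (IsNoetherian.noetherian _) 1
    rw [AdicCompletion.maximalIdeal_eq_map]
    have hp : (maximalIdeal R ^ 1).map (algebraMap R (AdicCompletion (maximalIdeal R) R)) =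
        (maximalIdeal R).map (algebraMap R (AdicCompletion (maximalIdeal R) R)) := by
      rw [pow_one]
    rw [hp] at hk
    rw [← hk, RingHom.mem_ker, map_sub]
    rw [sub_eq_zero]
    change AdicCompletion.evalₐ (maximalIdeal R) 1 z =
      AdicCompletion.evalₐ (maximalIdeal R) 1 (algebraMap R (Cq A q) r)
    rw [← hr]
    exact ((AdicCompletion.evalₐ (maximalIdeal R) 1).commutes r).symm
  obtain ⟨a, ⟨s, hs⟩, rfl⟩ := IsLocalization.exists_mk'_eq q.primeCompl r
  refine ⟨a, s, hs, ?_⟩
  rw [← cq_maximalIdeal]
  have h2 : s • z - algebraMap A (Cq A q) a =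
      algebraMap A (Cq A q) s * (z - algebraMap R (Cq A q) (IsLocalization.mk' R a ⟨s, hs⟩)) := by
    rw [mul_sub, Algebra.smul_def, IsScalarTower.algebraMap_apply A R (Cq A q) s, ← map_mul,
      IsLocalization.mk'_spec' (M := q.primeCompl) R a ⟨s, hs⟩,
      ← IsScalarTower.algebraMap_apply A R (Cq A q) a]
  rw [h2]
  exact Ideal.mul_mem_left _ _ hmem

/-- a complete Noetherian local `A`-algebra whose closed point lies over `q` receives an
`A`-algebra map from the completed local ring at `q` -/
theorem exists_algHom_of_comap_eq (B : Type u) [CommRing B] [Algebra A B] [IsNoetherianRing B]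
    [IsLocalRing B] (hB : IsAdicComplete (maximalIdeal B) B)
    (hq : (maximalIdeal B).comap (algebraMap A B) = q) : Nonempty (Cq A q →ₐ[A] B) := by
  let R := Localization.AtPrime q
  have hunit : ∀ s : q.primeCompl, IsUnit (algebraMap A B s) := by
    rintro ⟨s, hs⟩
    by_contra hns
    apply hs
    rw [← hq]
    exact (IsLocalRing.mem_maximalIdeal _).mpr hns
  letI : Algebra R B := (IsLocalization.lift (M := q.primeCompl) (g := algebraMap A B) hunit).toAlgebra
  haveI : IsScalarTower A R B := IsScalarTower.of_algebraMap_eq fun a => by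
    rw [RingHom.algebraMap_toAlgebra, IsLocalization.lift_eq]
  haveI : IsLocalHom (algebraMap R B) := by
    refine ((local_hom_TFAE (algebraMap R B)).out 0 2 rfl rfl).mpr ?_
    rw [← Localization.AtPrime.map_eq_maximalIdeal, Ideal.map_map,
      ← IsScalarTower.algebraMap_eq, Ideal.map_le_iff_le_comap, hq]
  let g₀ : Cq A q →+* B :=
    ((AdicCompletion.ofAlgEquiv (maximalIdeal B)).symm : AdicCompletion (maximalIdeal B) B →+* B).comp
      (Groth.Agent.H26.ComplFlatMap.complHom R B)
  refine ⟨{ g₀ with commutes' := fun a => ?_ }⟩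
  change g₀ (algebraMap A (Cq A q) a) = algebraMap A B a
  rw [IsScalarTower.algebraMap_apply A R (Cq A q)]
  change ((AdicCompletion.ofAlgEquiv (maximalIdeal B)).symm)
    (Groth.Agent.H26.ComplFlatMap.complHom R B (algebraMap R (Cq A q) (algebraMap A R a))) = _
  rw [Groth.Agent.H26.ComplFlatMap.complHom_algebraMap, ← IsScalarTower.algebraMap_apply A R B]
  exact (AdicCompletion.ofAlgEquiv (maximalIdeal B)).symm_apply_apply _

end Groth.Agent.H78.ComplFam
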