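import Mathlib
import Groth.Agent.H78.ComplFam.Cq

/-!
# Tensor lemmas for `B ⊗ A/p` (towards S11181)
-/

set_option autoImplicit false
set_option linter.style.haveILetI false
set_option linter.unusedSectionVars false
universe u

namespace Groth.Agent.H78.ComplFam

open IsLocalRing TensorProduct

section

variable {A : Type u} [CommRing A] (p : Ideal A) (B : Type u) [CommRing B] [Algebra A B]

theorem exists_tmul_one (w : B ⊗[A] (A ⧸ p)) : ∃ z : B, w = z ⊗ₜ[A] (1 : A ⧸ p) := by
  induction w using TensorProduct.induction_on with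
  | zero => exact ⟨0, by simp⟩
  | tmul b d =>
    obtain ⟨a, rfl⟩ := Ideal.Quotient.mk_surjective d
    refine ⟨a • b, ?_⟩
    rw [TensorProduct.smul_tmul]
    congr 1
    rw [← Ideal.Quotient.algebraMap_eq, Algebra.algebraMap_eq_smul_one]
  | add x y hx hy =>
    obtain ⟨z₁, rfl⟩ := hx
    obtain ⟨z₂, rfl⟩ := hy
    exact ⟨z₁ + z₂, by rw [TensorProduct.add_tmul]⟩

theorem tmul_one_eq_zero_iff (z : B) :
    z ⊗ₜ[A] (1 : A ⧸ p) = 0 ↔ z ∈ p.map (algebraMap A B) := by
  have h1 : (TensorProduct.tensorQuotEquivQuotSMul B p) (z ⊗ₜ[A] (Ideal.Quotient.mk p 1)) =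
      Submodule.Quotient.mk ((1 : A) • z) := TensorProduct.tensorQuotEquivQuotSMul_tmul_mk p z 1
  rw [one_smul] at h1
  constructor
  · intro h
    have h2 : (Submodule.Quotient.mk z : B ⧸ (p • (⊤ : Submodule A B))) = 0 := by
      rw [← h1]
      change (TensorProduct.tensorQuotEquivQuotSMul B p) (z ⊗ₜ[A] (1 : A ⧸ p)) = 0
      rw [h, map_zero]
    rw [Submodule.Quotient.mk_eq_zero, Ideal.smul_top_eq_map] at h2
    exact h2
  · intro h
    have h2 : (Submodule.Quotient.mk z : B ⧸ (p • (⊤ : Submodule A B))) = 0 := by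
      rw [Submodule.Quotient.mk_eq_zero, Ideal.smul_top_eq_map]
      exact h
    apply (TensorProduct.tensorQuotEquivQuotSMul B p).injective
    rw [map_zero]
    exact h1.trans h2

theorem smul_eq_zero_of_mem {t : A} (ht : t ∈ p) (w : B ⊗[A] (A ⧸ p)) : t • w = 0 := by
  induction w using TensorProduct.induction_on with
  | zero => simp
  | tmul b d =>
    obtain ⟨a, rfl⟩ := Ideal.Quotient.mk_surjective d
    rw [TensorProduct.smul_tmul', TensorProduct.smul_tmul]
    have : t • (Ideal.Quotient.mk p a) = 0 := by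
      rw [Algebra.smul_def, Ideal.Quotient.algebraMap_eq, ← map_mul,
        Ideal.Quotient.eq_zero_iff_mem]
      exact Ideal.mul_mem_right _ _ ht
    rw [this, TensorProduct.tmul_zero]
  | add x y hx hy => rw [smul_add, hx, hy, add_zero]

theorem smul_injective_of_notMem [hp : p.IsPrime] [Module.Flat A B] {s : A} (hs : s ∉ p) :
    Function.Injective (fun w : B ⊗[A] (A ⧸ p) => s • w) := by
  let f : (A ⧸ p) →ₗ[A] (A ⧸ p) := s • LinearMap.id
  have hf : Function.Injective f := by
    rw [← LinearMap.ker_eq_bot, LinearMap.ker_eq_bot']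
    intro d hd
    obtain ⟨a, rfl⟩ := Ideal.Quotient.mk_surjective d
    change s • (Ideal.Quotient.mk p a) = 0 at hd
    rw [Algebra.smul_def, Ideal.Quotient.algebraMap_eq, ← map_mul,
      Ideal.Quotient.eq_zero_iff_mem] at hd
    rw [Ideal.Quotient.eq_zero_iff_mem]
    exact (hp.mem_or_mem hd).resolve_left hs
  have hinj : Function.Injective (LinearMap.lTensor B f) :=
    Module.Flat.lTensor_preserves_injective_linearMap f hf
  have heq : ∀ w, LinearMap.lTensor B f w = s • w := by
    intro w
    rw [LinearMap.lTensor_smul, LinearMap.lTensor_id]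
    rfl
  intro w₁ w₂ h
  apply hinj
  rw [heq, heq]
  exact h

end

section

variable {A : Type u} [CommRing A]

theorem cancel_one_tmul (R S : Type u) [CommRing R] [CommRing S] [Algebra A R] [Algebra A S]
    [Algebra R S] [IsScalarTower A R S] (M : Type u) [AddCommGroup M] [Module A M]
    (w : R ⊗[A] M) :
    AlgebraTensorModule.cancelBaseChange A R S S M ((1 : S) ⊗ₜ[R] w) =
      LinearMap.rTensor M (IsScalarTower.toAlgHom A R S).toLinearMap w := by
  induction w using TensorProduct.induction_on with
  | zero => simp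
  | tmul b d =>
    rw [AlgebraTensorModule.cancelBaseChange_tmul, LinearMap.rTensor_tmul]
    congr 1
    rw [Algebra.smul_def, mul_one]
    rfl
  | add x y hx hy =>
    rw [TensorProduct.tmul_add, map_add, hx, hy, map_add]

/-- a nonzero element of a module over a Noetherian ring stays nonzero after base change to the
completed local ring at a suitable associated prime -/
theorem exists_assPrime_tmul_ne_zero (R : Type u) [CommRing R] [IsNoetherianRing R] (N : Type u)
    [AddCommGroup N] [Module R N] (y : N) (hy : y ≠ 0) :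
    ∃ (P : Ideal R) (_ : P.IsPrime), IsAssociatedPrime P N ∧ (1 : Cq R P) ⊗ₜ[R] y ≠ 0 := by
  obtain ⟨P, hPass, hle⟩ := exists_le_isAssociatedPrime_of_isNoetherianRing R y hy
  haveI hPp : P.IsPrime := hPass.isPrime
  refine ⟨P, hPp, hPass, ?_⟩
  intro h0
  let I : Ideal R := (⊥ : Submodule R N).colon {y}
  let f : R →ₗ[R] N := LinearMap.toSpanSingleton R N y
  have hker : LinearMap.ker f = I := by
    ext r
    rw [LinearMap.mem_ker, Submodule.mem_colon_singleton, Submodule.mem_bot]
    rfl
  let g : (R ⧸ I) →ₗ[R] N := Submodule.liftQ I f (le_of_eq hker.symm)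
  have hg : Function.Injective g := by
    rw [← LinearMap.ker_eq_bot]
    exact Submodule.ker_liftQ_eq_bot _ _ _ (le_of_eq hker)
  haveI := cq_flat R P
  have hinj : Function.Injective (g.lTensor (Cq R P)) :=
    Module.Flat.lTensor_preserves_injective_linearMap g hg
  have h2 : (1 : Cq R P) ⊗ₜ[R] (1 : R ⧸ I) = 0 := by
    apply hinj
    rw [map_zero, LinearMap.lTensor_tmul]
    have : g (1 : R ⧸ I) = y := by
      change f 1 = y
      simp [f]
    rw [this, h0]
  rw [tmul_one_eq_zero_iff] at h2
  have h3 : (1 : Cq R P) ∈ maximalIdeal (Cq R P) := by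
    rw [cq_maximalIdeal]
    exact Ideal.map_mono hle h2
  exact (IsLocalRing.maximalIdeal.isMaximal (Cq R P)).ne_top ((Ideal.eq_top_iff_one _).mpr h3)

end

end Groth.Agent.H78.ComplFam
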