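import Mathlib
import Groth.Agent.H78.ComplFam.Basic
import Groth.Agent.H78.ComplFam.Tensor

/-!
# Compatible families on `A/p` are constant (towards S11181)
-/

set_option autoImplicit false
set_option linter.style.haveILetI false
set_option linter.unusedSectionVars false
universe u

namespace Groth.Agent.H78.ComplFam

open IsLocalRing TensorProduct

variable {A : Type u} [CommRing A] [IsNoetherianRing A]

/-- an associated prime of `B ⊗ A/p` (`B` flat) lies over `p` -/
theorem comap_eq_of_isAssociatedPrime (p : Ideal A) [hp : p.IsPrime] (B : Type u) [CommRing B]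
    [Algebra A B] [IsNoetherianRing B] [Module.Flat A B] (P : Ideal B)
    (hP : IsAssociatedPrime P (B ⊗[A] (A ⧸ p))) : P.comap (algebraMap A B) = p := by
  obtain ⟨hPp, z₀, hz₀⟩ := (isAssociatedPrime_iff).mp hP
  have hmem : ∀ t : A, t ∈ P.comap (algebraMap A B) ↔ t • z₀ = 0 := by
    intro t
    rw [Ideal.mem_comap, hz₀, Submodule.mem_colon_singleton, Submodule.mem_bot, algebraMap_smul]
  ext t
  rw [hmem]
  constructor
  · intro h
    by_contra ht
    have h0 : z₀ = 0 := by
      apply smul_injective_of_notMem p B ht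
      change t • z₀ = t • (0 : B ⊗[A] (A ⧸ p))
      rw [h, smul_zero]
    apply hPp.ne_top
    rw [hz₀, h0, Ideal.eq_top_iff_one, Submodule.mem_colon_singleton]
    simp
  · intro h
    exact smul_eq_zero_of_mem p B h z₀

omit [IsNoetherianRing A] in
theorem one_tmul_eq_zero_of_rTensor_eq_zero (R S : Type u) [CommRing R] [CommRing S] [Algebra A R]
    [Algebra A S] [Algebra R S] [IsScalarTower A R S] (M : Type u) [AddCommGroup M] [Module A M]
    (w : R ⊗[A] M)
    (h : LinearMap.rTensor M (IsScalarTower.toAlgHom A R S).toLinearMap w = 0) :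
    (1 : S) ⊗ₜ[R] w = 0 := by
  apply (AlgebraTensorModule.cancelBaseChange A R S S M).injective
  rw [map_zero, cancel_one_tmul]
  exact h

theorem good_quotient_prime (p : Ideal A) [hp : p.IsPrime] : Good A (A ⧸ p) := by
  intro F
  -- Step 1: the value at the completed local ring at `p` is a fraction `a / s`
  obtain ⟨z0, hz0⟩ := exists_tmul_one p (Cq A p) (F.x (Cq A p) (cq_complete A p) (cq_flat A p))
  obtain ⟨a, s, hs, hmem⟩ := cq_exists_congr A p z0
  have hone : ∀ (B : Type u) [CommRing B] [Algebra A B] (c : A),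
      (algebraMap A B c) ⊗ₜ[A] (1 : A ⧸ p) = (1 : B) ⊗ₜ[A] (Ideal.Quotient.mk p c) := by
    intro B _ _ c
    rw [Algebra.algebraMap_eq_smul_one, TensorProduct.smul_tmul]
    congr 1
    rw [← Ideal.Quotient.algebraMap_eq, Algebra.algebraMap_eq_smul_one]
  have h1 : s • F.x (Cq A p) (cq_complete A p) (cq_flat A p) =
      (1 : Cq A p) ⊗ₜ[A] (Ideal.Quotient.mk p a) := by
    rw [hz0]
    have := (tmul_one_eq_zero_iff p (Cq A p) _).mpr hmem
    rw [TensorProduct.sub_tmul, sub_eq_zero] at this
    rw [TensorProduct.smul_tmul', this, hone]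
  -- Step 2: the same relation holds at every prime containing `p`
  have h2 : ∀ (q : Ideal A) [q.IsPrime], p ≤ q →
      s • F.x (Cq A q) (cq_complete A q) (cq_flat A q) =
        (1 : Cq A q) ⊗ₜ[A] (Ideal.Quotient.mk p a) := by
    intro q _ hpq
    by_contra hne
    have hy0 : s • F.x (Cq A q) (cq_complete A q) (cq_flat A q) -
        (1 : Cq A q) ⊗ₜ[A] (Ideal.Quotient.mk p a) ≠ 0 := sub_ne_zero.mpr hne
    obtain ⟨P, hPp, hPass, hne'⟩ :=
      exists_assPrime_tmul_ne_zero (Cq A q) (Cq A q ⊗[A] (A ⧸ p)) _ hy0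
    haveI := hPp
    haveI := cq_flat A q
    have hPc : P.comap (algebraMap A (Cq A q)) = p :=
      comap_eq_of_isAssociatedPrime p (Cq A q) P hPass
    have hB'f : Module.Flat A (Cq (Cq A q) P) := by
      haveI := cq_flat (Cq A q) P
      exact Module.Flat.trans A (Cq A q) (Cq (Cq A q) P)
    have hcomap : (maximalIdeal (Cq (Cq A q) P)).comap (algebraMap A (Cq (Cq A q) P)) = p := by
      rw [IsScalarTower.algebraMap_eq A (Cq A q) (Cq (Cq A q) P), ← Ideal.comap_comap,
        cq_comap_maximalIdeal, hPc]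
    obtain ⟨gp⟩ := exists_algHom_of_comap_eq A p (Cq (Cq A q) P) (cq_complete (Cq A q) P) hcomap
    let gq : Cq A q →ₐ[A] Cq (Cq A q) P := IsScalarTower.toAlgHom A (Cq A q) (Cq (Cq A q) P)
    have hcq := F.compat (Cq A q) (cq_complete A q) (cq_flat A q) (Cq (Cq A q) P)
      (cq_complete (Cq A q) P) hB'f gq
    have hcp := F.compat (Cq A p) (cq_complete A p) (cq_flat A p) (Cq (Cq A q) P)
      (cq_complete (Cq A q) P) hB'f gp
    apply hne'
    apply one_tmul_eq_zero_of_rTensor_eq_zero
    change LinearMap.rTensor (A ⧸ p) gq.toLinearMap _ = 0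
    rw [map_sub, map_smul, hcq, ← hcp, ← map_smul, h1, LinearMap.rTensor_tmul,
      LinearMap.rTensor_tmul]
    simp
  -- Step 3: `a ∈ (s) + p`
  have h3 : a ∈ Ideal.span {s} ⊔ p := by
    by_contra hna
    let J : Ideal A := (Ideal.span {s} ⊔ p : Submodule A A).colon {a}
    have hJ : J ≠ ⊤ := by
      intro h
      have h1' : (1 : A) ∈ J := h ▸ Submodule.mem_top
      rw [Submodule.mem_colon_singleton, one_smul] at h1'
      exact hna h1'
    obtain ⟨q, hqmax, hJq⟩ := Ideal.exists_le_maximal J hJ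
    haveI : q.IsPrime := hqmax.isPrime
    have hpq : p ≤ q := by
      intro t ht
      apply hJq
      rw [Submodule.mem_colon_singleton]
      exact Ideal.mem_sup_right (Ideal.mul_mem_right _ _ ht)
    have h2q := h2 q hpq
    obtain ⟨z, hz⟩ := exists_tmul_one p (Cq A q) (F.x (Cq A q) (cq_complete A q) (cq_flat A q))
    rw [hz, TensorProduct.smul_tmul', ← hone, ← sub_eq_zero, ← TensorProduct.sub_tmul,
      tmul_one_eq_zero_iff] at h2q
    have ha_mem : algebraMap A (Cq A q) a ∈ (Ideal.span {s} ⊔ p).map (algebraMap A (Cq A q)) := by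
      have e1 : s • z ∈ (Ideal.span {s} ⊔ p).map (algebraMap A (Cq A q)) := by
        rw [Algebra.smul_def]
        exact Ideal.mul_mem_right _ _
          (Ideal.mem_map_of_mem _ (Ideal.mem_sup_left (Ideal.mem_span_singleton_self s)))
      have e2 : s • z - algebraMap A (Cq A q) a ∈
          (Ideal.span {s} ⊔ p).map (algebraMap A (Cq A q)) := Ideal.map_mono le_sup_right h2q
      have e3 := Ideal.sub_mem _ e1 e2
      rwa [sub_sub_cancel] at e3
    have hloc : algebraMap A (Localization.AtPrime q) a ∈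
        (Ideal.span {s} ⊔ p).map (algebraMap A (Localization.AtPrime q)) := by
      haveI := cq_faithfullyFlat A q
      rw [← Ideal.comap_map_eq_self_of_faithfullyFlat (B := Cq A q)
        ((Ideal.span {s} ⊔ p).map (algebraMap A (Localization.AtPrime q))), Ideal.mem_comap,
        Ideal.map_map, ← IsScalarTower.algebraMap_eq, ← IsScalarTower.algebraMap_apply]
      exact ha_mem
    rw [IsLocalization.algebraMap_mem_map_algebraMap_iff q.primeCompl] at hloc
    obtain ⟨t, ht, hta⟩ := hloc
    apply ht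
    apply hJq
    rw [Submodule.mem_colon_singleton]
    exact hta
  obtain ⟨c, hc, π, hπ, hsum⟩ := Submodule.mem_sup.mp h3
  obtain ⟨d, rfl⟩ := Ideal.mem_span_singleton'.mp hc
  have had : Ideal.Quotient.mk p a = s • Ideal.Quotient.mk p d := by
    rw [← hsum, map_add, Ideal.Quotient.eq_zero_iff_mem.mpr hπ, add_zero, map_mul,
      Algebra.smul_def, Ideal.Quotient.algebraMap_eq, mul_comm]
  -- Step 4: the value at every prime containing `p` is `d`
  have h4 : ∀ (q : Ideal A) [q.IsPrime], p ≤ q →
      F.x (Cq A q) (cq_complete A q) (cq_flat A q) =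
        (1 : Cq A q) ⊗ₜ[A] (Ideal.Quotient.mk p d) := by
    intro q _ hpq
    haveI := cq_flat A q
    apply smul_injective_of_notMem p (Cq A q) hs
    change s • _ = s • _
    rw [h2 q hpq, had, TensorProduct.tmul_smul]
  -- Step 5: all `B`
  refine ⟨Ideal.Quotient.mk p d, ?_⟩
  intro B _ _ _ _ hB hBf
  obtain ⟨q, hq⟩ : ∃ q : Ideal A, (maximalIdeal B).comap (algebraMap A B) = q := ⟨_, rfl⟩
  haveI hqp : q.IsPrime := hq ▸ Ideal.comap_isPrime _ _
  by_cases hpq : p ≤ q
  · obtain ⟨g⟩ := exists_algHom_of_comap_eq A q B hB hq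
    have hc := F.compat (Cq A q) (cq_complete A q) (cq_flat A q) B hB hBf g
    rw [h4 q hpq, LinearMap.rTensor_tmul] at hc
    rw [← hc]
    congr 1
    exact map_one g
  · obtain ⟨t, htp, htq⟩ := Set.not_subset.mp hpq
    rw [← hq] at htq
    have hu : IsUnit (algebraMap A B t) := by
      by_contra hnu
      exact htq ((IsLocalRing.mem_maximalIdeal _).mpr hnu)
    have hzero : ∀ w : B ⊗[A] (A ⧸ p), w = 0 := by
      intro w
      obtain ⟨z, rfl⟩ := exists_tmul_one p B w
      obtain ⟨u, hu'⟩ := hu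
      have : z = t • (↑u⁻¹ * z) := by
        rw [Algebra.smul_def, ← hu', ← mul_assoc, Units.mul_inv, one_mul]
      rw [this, ← TensorProduct.smul_tmul']
      exact smul_eq_zero_of_mem p B htp _
    rw [hzero (F.x B hB hBf), hzero ((1 : B) ⊗ₜ[A] (Ideal.Quotient.mk p d))]

end Groth.Agent.H78.ComplFam
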