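import Mathlib
import Groth.Agent.H78.ComplFam.Core

/-!
# Compatible families on finite modules are constant (towards S11181)
-/

set_option autoImplicit false
set_option linter.style.haveILetI false
set_option linter.unusedSectionVars false
universe u

namespace Groth.Agent.H78.ComplFam

open IsLocalRing TensorProduct

theorem good_of_finite (A : Type u) [CommRing A] [IsNoetherianRing A] (M : Type u) [AddCommGroup M]
    [Module A M] [hM : Module.Finite A M] : Good A M := by
  induction hM using IsNoetherianRing.induction_on_isQuotientEquivQuotientPrime A with
  | subsingleton N => exact good_of_subsingleton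
  | quotient N p e =>
    exact good_of_equiv e.symm (good_quotient_prime p.asIdeal)
  | exact N₁ N₂ N₃ f g hf hg hfg h₁ h₃ => exact good_of_exact f g hf hg hfg h₁ h₃

end Groth.Agent.H78.ComplFam
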